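import Mathlib
set_option linter.all false

/-!
# Tools for presentations on three generators (helper14, for S5527)

* `exists_hom3` : an order bound gives a homomorphism;
* `range3`, `equiv3`, `card3` : the image is the subgroup generated by the three elements;
* `mem_meta`, `card_meta_le`, `card_meta` : the group `⟨a, b⟩` where `b` normalises `⟨a⟩`;
* `map_norm`, `norm_transfer`, `min_transfer` : transport along an injective homomorphism.
-/

set_option autoImplicit false

namespace Cfsg.Agent.BX.Iso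

open Subgroup

section hom

variable {Q G : Type*} [Group Q] [Group G]

theorem mem1 (a b c : G) : a ∈ closure ({a, b, c} : Set G) := subset_closure (by simp)
theorem mem2 (a b c : G) : b ∈ closure ({a, b, c} : Set G) := subset_closure (by simp)
theorem mem3 (a b c : G) : c ∈ closure ({a, b, c} : Set G) := subset_closure (by simp)
theorem memL (a b : G) : a ∈ closure ({a, b} : Set G) := subset_closure (by simp)
theorem memR (a b : G) : b ∈ closure ({a, b} : Set G) := subset_closure (by simp)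

theorem cl2_le {a b : G} {K : Subgroup G} (ha : a ∈ K) (hb : b ∈ K) : closure ({a, b} : Set G) ≤ K := by
  rw [closure_le]
  rintro x (rfl | rfl)
  · exact ha
  · exact hb

theorem cl3_le {a b c : G} {K : Subgroup G} (ha : a ∈ K) (hb : b ∈ K) (hc : c ∈ K) :
    closure ({a, b, c} : Set G) ≤ K := by
  rw [closure_le]
  rintro x (rfl | rfl | rfl)
  · exact ha
  · exact hb
  · exact hc

theorem map_cl2 (φ : Q →* G) (a b : Q) : (closure ({a, b} : Set Q)).map φ = closure ({φ a, φ b} : Set G) := by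
  rw [MonoidHom.map_closure, Set.image_pair]

theorem map_cl3 (φ : Q →* G) (a b c : Q) :
    (closure ({a, b, c} : Set Q)).map φ = closure ({φ a, φ b, φ c} : Set G) := by
  rw [MonoidHom.map_closure, Set.image_insert_eq, Set.image_pair]

/-- **von Dyck** for three generators, from an order bound in `Q × G` -/
theorem exists_hom3 [Finite Q] {a0 b0 c0 : Q} (hgen : closure ({a0, b0, c0} : Set Q) = ⊤) {a b c : G}
    (h : Finite (closure ({(a0, a), (b0, b), (c0, c)} : Set (Q × G))) ∧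
      Nat.card (closure ({(a0, a), (b0, b), (c0, c)} : Set (Q × G))) ≤ Nat.card Q) :
    ∃ φ : Q →* G, φ a0 = a ∧ φ b0 = b ∧ φ c0 = c := by
  obtain ⟨hfin, hcard⟩ := h
  set K : Subgroup (Q × G) := closure {(a0, a), (b0, b), (c0, c)} with hK
  let p : K →* Q := (MonoidHom.fst Q G).comp K.subtype
  have hmap : K.map (MonoidHom.fst Q G) = ⊤ := by
    rw [hK, map_cl3]
    exact hgen
  have hsurj : Function.Surjective p := by
    intro x
    have hx : x ∈ K.map (MonoidHom.fst Q G) := by rw [hmap]; trivial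
    obtain ⟨y, hy, rfl⟩ := hx
    exact ⟨⟨y, hy⟩, rfl⟩
  have hbij : Function.Bijective p := by
    have : Nat.card K = Nat.card Q := le_antisymm hcard (Nat.card_le_card_of_surjective p hsurj)
    exact (Nat.bijective_iff_surjective_and_card p).2 ⟨hsurj, this⟩
  let e : K ≃* Q := MulEquiv.ofBijective p hbij
  have key : ∀ (x0 : Q) (x : G), (x0, x) ∈ K →
      (((MonoidHom.snd Q G).comp K.subtype).comp e.symm.toMonoidHom) x0 = x := fun x0 x hx => by
    have : e.symm x0 = ⟨(x0, x), hx⟩ := by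
      rw [MulEquiv.symm_apply_eq]; rfl
    show (e.symm x0 : Q × G).2 = x
    rw [this]
  exact ⟨_, key _ _ (mem1 _ _ _), key _ _ (mem2 _ _ _), key _ _ (mem3 _ _ _)⟩

theorem range3 {a0 b0 c0 : Q} (hgen : closure ({a0, b0, c0} : Set Q) = ⊤) (φ : Q →* G) :
    φ.range = closure ({φ a0, φ b0, φ c0} : Set G) := by
  rw [MonoidHom.range_eq_map, ← hgen, map_cl3]

theorem equiv3 {a0 b0 c0 : Q} (hgen : closure ({a0, b0, c0} : Set Q) = ⊤) {φ : Q →* G} (hφ : Function.Injective φ) :
    Nonempty (closure ({φ a0, φ b0, φ c0} : Set G) ≃* Q) := by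
  rw [← range3 hgen]
  exact ⟨(MonoidHom.ofInjective hφ).symm⟩

theorem card3 {a0 b0 c0 : Q} (hgen : closure ({a0, b0, c0} : Set Q) = ⊤) {φ : Q →* G} (hφ : Function.Injective φ) :
    Nat.card (closure ({φ a0, φ b0, φ c0} : Set G)) = Nat.card Q :=
  Nat.card_congr (equiv3 hgen hφ).some.toEquiv

/-- a homomorphism from a simple group which is not trivial is injective -/
theorem inj_of_simple [IsSimpleGroup Q] (φ : Q →* G) {x : Q} (hx : φ x ≠ 1) : Function.Injective φ := by
  rw [← MonoidHom.ker_eq_bot_iff]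
  rcases φ.normal_ker.eq_bot_or_eq_top with h | h
  · exact h
  · exact absurd (show x ∈ φ.ker by rw [h]; trivial) hx

/-- the same from a minimal normal subgroup -/
theorem inj_of_min {S : Subgroup Q} (hS : ∀ N : Subgroup Q, N.Normal → N ≠ ⊥ → S ≤ N) (φ : Q →* G) {x : Q}
    (hxS : x ∈ S) (hx : φ x ≠ 1) : Function.Injective φ := by
  rw [← MonoidHom.ker_eq_bot_iff]
  by_contra h
  exact hx (hS _ φ.normal_ker h hxS)

theorem map_norm {φ : Q →* G} (hφ : Function.Injective φ) (K : Subgroup Q) :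
    φ.range ⊓ normalizer ((K.map φ : Subgroup G) : Set G) = (normalizer (K : Set Q)).map φ := by
  have h1 := comap_normalizer_eq_of_le_range (H := K.map φ) (f := φ) (map_le_range φ K)
  rw [comap_map_eq_self_of_injective hφ] at h1
  rw [← h1, map_comap_eq]

/-- transport of the normaliser of a cyclic subgroup -/
theorem norm_transfer {φ : Q →* G} (hφ : Function.Injective φ) {x : Q} {K : Subgroup Q}
    (h : normalizer ((zpowers x : Subgroup Q) : Set Q) = K) :
    φ.range ⊓ normalizer ((zpowers (φ x) : Subgroup G) : Set G) = K.map φ := by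
  rw [← MonoidHom.map_zpowers, map_norm hφ, h]

theorem map_cent {φ : Q →* G} (hφ : Function.Injective φ) (x : Q) :
    φ.range ⊓ centralizer ({φ x} : Set G) = (centralizer ({x} : Set Q)).map φ := by
  ext g
  constructor
  · rintro ⟨⟨y, rfl⟩, h⟩
    refine ⟨y, ?_, rfl⟩
    have h1 := mem_centralizer_singleton_iff.1 h
    exact mem_centralizer_singleton_iff.2 (hφ (by rw [map_mul, map_mul, h1]))
  · rintro ⟨y, h, rfl⟩
    refine ⟨⟨y, rfl⟩, ?_⟩
    have h1 := mem_centralizer_singleton_iff.1 h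
    exact mem_centralizer_singleton_iff.2 (by rw [← map_mul, h1, map_mul])

/-- transport of "every nontrivial normal subgroup contains `S`" -/
theorem min_transfer (φ : Q →* G) {S : Subgroup Q} (hS : ∀ N : Subgroup Q, N.Normal → N ≠ ⊥ → S ≤ N)
    (N : Subgroup G) (hN : φ.range ≤ normalizer (N : Set G)) (h : φ.range ⊓ N ≠ ⊥) : S.map φ ≤ N := by
  rw [map_le_iff_le_comap]
  refine hS _ ⟨fun n hn g => ?_⟩ fun h1 => h ?_
  · rw [mem_comap, map_mul, map_mul, map_inv]
    exact (mem_normalizer_iff.1 (hN ⟨g, rfl⟩) _).1 hn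
  · rw [← map_comap_eq, h1, Subgroup.map_bot]

theorem simple_map {φ : Q →* G} (hφ : Function.Injective φ) (S : Subgroup Q) [IsSimpleGroup S] :
    IsSimpleGroup (S.map φ) := (equivMapOfInjective S φ hφ).symm.isSimpleGroup

/-- an element which normalises `⟨x⟩` conjugates `x` to a power -/
theorem pow_of_norm {g x : G} {n : ℕ} (hn : 0 < n) (hx : x ^ n = 1)
    (h : g ∈ normalizer ((zpowers x : Subgroup G) : Set G)) : ∃ e < n, g * x * g⁻¹ = x ^ e := by
  have h1 := (mem_normalizer_iff.1 h x).1 (mem_zpowers x)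
  obtain ⟨e, he⟩ := (isOfFinOrder_iff_pow_eq_one.2 ⟨n, hn, hx⟩).mem_powers_iff_mem_zpowers.2 h1
  exact ⟨e % n, Nat.mod_lt _ hn, by rw [← pow_eq_pow_mod e hx]; exact he.symm⟩

theorem norm_of_pow {g x : G} {n e : ℕ} (hn : 0 < n) (hx : x ^ n = 1) (h : g * x * g⁻¹ = x ^ e) :
    g ∈ normalizer ((zpowers x : Subgroup G) : Set G) := by
  have : Finite (zpowers x) := (isOfFinOrder_iff_pow_eq_one.2 ⟨n, hn, hx⟩).finite_zpowers
  refine mem_normalizer_fintype fun y hy => ?_
  obtain ⟨k, rfl⟩ := mem_zpowers_iff.1 hy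
  rw [← conj_zpow, h]
  exact zpow_mem (pow_mem (mem_zpowers x) e) k

end hom

section mcyc

variable {G : Type*} [Group G] {a b : G} {p m k : ℕ}

theorem conj_pow_pow (h : b * a * b⁻¹ = a ^ k) (i j : ℕ) : b ^ j * a ^ i = a ^ (k ^ j * i) * b ^ j := by
  induction j generalizing i with
  | zero => simp
  | succ j ih =>
    have h1 : b * a ^ i = a ^ (k * i) * b := by
      rw [pow_mul, ← h, conj_pow, inv_mul_cancel_right]
    rw [pow_succ b, mul_assoc, h1, ← mul_assoc, ih, mul_assoc, pow_succ k, mul_assoc]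

theorem inv_eq_pow (hp : 0 < p) (ha : a ^ p = 1) : a⁻¹ = a ^ (p - 1) := by
  rw [inv_eq_iff_mul_eq_one, ← pow_succ', Nat.sub_add_cancel hp, ha]

/-- the elements of `⟨a, b⟩` -/
theorem mem_meta (hp : 0 < p) (hm : 0 < m) (ha : a ^ p = 1) (hb : b ^ m = 1) (h : b * a * b⁻¹ = a ^ k) {g : G}
    (hg : g ∈ closure ({a, b} : Set G)) : ∃ i < p, ∃ j < m, g = a ^ i * b ^ j := by
  have key : ∃ i j : ℕ, g = a ^ i * b ^ j := by
    refine closure_induction_left (p := fun g _ => ∃ i j : ℕ, g = a ^ i * b ^ j) ⟨0, 0, by simp⟩ ?_ ?_ hg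
    · rintro x (rfl | rfl) y _ ⟨i, j, rfl⟩
      · exact ⟨i + 1, j, by rw [pow_succ', mul_assoc]⟩
      · refine ⟨k ^ 1 * i, j + 1, ?_⟩
        have h1 := conj_pow_pow h i 1
        rw [pow_one x] at h1
        rw [← mul_assoc, h1, mul_assoc, ← pow_succ']
    · rintro x (rfl | rfl) y _ ⟨i, j, rfl⟩
      · exact ⟨p - 1 + i, j, by rw [inv_eq_pow hp ha, pow_add, mul_assoc]⟩
      · refine ⟨k ^ (m - 1) * i, m - 1 + j, ?_⟩
        rw [inv_eq_pow hm hb, ← mul_assoc, conj_pow_pow h, pow_add, mul_assoc]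
  obtain ⟨i, j, rfl⟩ := key
  exact ⟨i % p, Nat.mod_lt _ hp, j % m, Nat.mod_lt _ hm, by rw [← pow_eq_pow_mod i ha, ← pow_eq_pow_mod j hb]⟩

theorem card_meta_le (hp : 0 < p) (hm : 0 < m) (ha : a ^ p = 1) (hb : b ^ m = 1) (h : b * a * b⁻¹ = a ^ k) :
    Finite (closure ({a, b} : Set G)) ∧ Nat.card (closure ({a, b} : Set G)) ≤ p * m := by
  let f : Fin p × Fin m → closure ({a, b} : Set G) := fun t =>
    ⟨a ^ (t.1 : ℕ) * b ^ (t.2 : ℕ), mul_mem (pow_mem (memL a b) _) (pow_mem (memR a b) _)⟩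
  have hf : Function.Surjective f := fun g => by
    obtain ⟨i, hi, j, hj, e⟩ := mem_meta hp hm ha hb h g.2
    exact ⟨(⟨i, hi⟩, ⟨j, hj⟩), Subtype.ext e.symm⟩
  refine ⟨Finite.of_surjective f hf, (Nat.card_le_card_of_surjective f hf).trans ?_⟩
  simp

/-- the order of `⟨a, b⟩` when `⟨a⟩ ∩ ⟨b⟩ = 1` -/
theorem card_meta (hp : 0 < p) (hm : 0 < m) (ha : orderOf a = p) (hb : orderOf b = m) (h : b * a * b⁻¹ = a ^ k)
    (hd : ∀ j, 0 < j → j < m → b ^ j ∉ zpowers a) : Nat.card (closure ({a, b} : Set G)) = p * m := by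
  have ha1 : a ^ p = 1 := ha ▸ pow_orderOf_eq_one a
  have hb1 : b ^ m = 1 := hb ▸ pow_orderOf_eq_one b
  obtain ⟨h1, h2⟩ := card_meta_le hp hm ha1 hb1 h
  refine le_antisymm h2 ?_
  let f : Fin p × Fin m → closure ({a, b} : Set G) := fun t =>
    ⟨a ^ (t.1 : ℕ) * b ^ (t.2 : ℕ), mul_mem (pow_mem (memL a b) _) (pow_mem (memR a b) _)⟩
  have key : ∀ i i' j j' : ℕ, j' < m → a ^ i * b ^ j = a ^ i' * b ^ j' → ¬ j < j' := fun i i' j j' hj e hlt => by
    obtain ⟨d, rfl⟩ := Nat.exists_eq_add_of_lt hlt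
    refine hd (d + 1) (Nat.succ_pos d) (by omega) ?_
    have e1 : b ^ (d + 1) = (a ^ i')⁻¹ * a ^ i := by
      rw [show j + d + 1 = d + 1 + j by omega, pow_add b (d + 1), ← mul_assoc] at e
      rw [mul_right_cancel e, inv_mul_cancel_left]
    rw [e1]
    exact mul_mem (inv_mem (pow_mem (mem_zpowers a) _)) (pow_mem (mem_zpowers a) _)
  have hf : Function.Injective f := by
    rintro ⟨i, j⟩ ⟨i', j'⟩ e
    have e1 : a ^ (i : ℕ) * b ^ (j : ℕ) = a ^ (i' : ℕ) * b ^ (j' : ℕ) := congrArg Subtype.val e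
    have e2 : j = j' := Fin.ext (le_antisymm (not_lt.1 (key _ _ _ _ j.2 e1.symm)) (not_lt.1 (key _ _ _ _ j'.2 e1)))
    subst e2
    have e3 : i = i' := Fin.ext (pow_injOn_Iio_orderOf (by rw [ha]; exact i.2) (by rw [ha]; exact i'.2)
      (mul_right_cancel e1))
    rw [e3]
  simpa using Nat.card_le_card_of_injective f hf

/-- coprime orders -/
theorem card_meta_cop (hp : 0 < p) (hm : 0 < m) (ha : orderOf a = p) (hb : orderOf b = m) (h : b * a * b⁻¹ = a ^ k)
    (hc : Nat.Coprime p m) : Nat.card (closure ({a, b} : Set G)) = p * m := by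
  refine card_meta hp hm ha hb h fun j h0 hj hz => ?_
  have h1 : orderOf (b ^ j) ∣ p := ha ▸ orderOf_dvd_of_mem_zpowers hz
  have h2 : orderOf (b ^ j) ∣ m := hb ▸ orderOf_pow_dvd j
  have h3 : b ^ j = 1 := orderOf_eq_one_iff.1 (Nat.eq_one_of_dvd_coprimes hc h1 h2)
  exact absurd (Nat.le_of_dvd h0 (hb ▸ orderOf_dvd_of_pow_eq_one h3)) (not_le.2 hj)

theorem meta_le_norm (hp : 0 < p) (ha : a ^ p = 1) (h : b * a * b⁻¹ = a ^ k) :
    closure ({a, b} : Set G) ≤ normalizer ((zpowers a : Subgroup G) : Set G) :=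
  cl2_le (le_normalizer (mem_zpowers a)) (norm_of_pow hp ha h)

end mcyc

end Cfsg.Agent.BX.Iso
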