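import Cfsg.Agent.BX.Iso.Base
set_option linter.all false

/-!
# The relations of a rank one group `L₂(p)`, `PGL₂(p)` (helper14, for S5527)

`R1 p m k u h w` : the relations.  `Num p m k` : the arithmetic conditions.
* `R1.bruhat`, `R1.card_le` : the Bruhat decomposition and the order bound;
* `R1.norm_u` : `N_H(⟨u⟩) = ⟨u, h⟩` of order `p m`;
* `R1.norm_h` : `N_H(⟨x⟩) = ⟨h, w⟩` of order `2 m` for `1 ≠ x ∈ ⟨h⟩`.
-/

set_option autoImplicit false

namespace Cfsg.Agent.BX.Iso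

open Subgroup

/-- the relations -/
structure R1 {G : Type*} [Group G] (p m k : ℕ) (u h w : G) : Prop where
  up : u ^ p = 1
  hm : h ^ m = 1
  hu : h * u * h⁻¹ = u ^ k
  ww : w ^ 2 = 1
  wh : (w * h) ^ 2 = 1
  uw : (u * w) ^ 3 = 1

/-- the arithmetic conditions -/
structure Num (p m k : ℕ) : Prop where
  prime : p.Prime
  big : 3 < p
  pos : 0 < m
  cop : Nat.Coprime p m
  ord : ∀ j < m, 0 < j → k ^ j % p ≠ 1
  gen : ∀ t < p, 0 < t → ∃ j < m, k ^ j % p = t ∨ k ^ j % p + t = p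

variable {G : Type*} [Group G] {p m k : ℕ} {u h w : G}

theorem R1.prod {Q : Type*} [Group Q] {u0 h0 w0 : Q} (r0 : R1 p m k u0 h0 w0) (r : R1 p m k u h w) :
    R1 p m k (u0, u) (h0, h) (w0, w) :=
  ⟨Prod.ext r0.up r.up, Prod.ext r0.hm r.hm, Prod.ext r0.hu r.hu, Prod.ext r0.ww r.ww, Prod.ext r0.wh r.wh,
    Prod.ext r0.uw r.uw⟩

theorem R1.map {Q : Type*} [Group Q] (r : R1 p m k u h w) (φ : G →* Q) : R1 p m k (φ u) (φ h) (φ w) :=
  ⟨by rw [← map_pow, r.up, map_one], by rw [← map_pow, r.hm, map_one],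
    by rw [← map_pow, ← r.hu, map_mul, map_mul, map_inv], by rw [← map_pow, r.ww, map_one],
    by rw [← map_mul, ← map_pow, r.wh, map_one], by rw [← map_mul, ← map_pow, r.uw, map_one]⟩

namespace R1

variable (r : R1 p m k u h w)
include r

theorem w_mul : w * w = 1 := by rw [← pow_two, r.ww]

theorem w_inv : w⁻¹ = w := inv_eq_of_mul_eq_one_right r.w_mul

theorem whw : w * h * w⁻¹ = h⁻¹ := by
  rw [r.w_inv, eq_inv_iff_mul_eq_one, ← r.wh, pow_two, mul_assoc (w * h)]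

theorem w_z {y : G} (hy : y ∈ zpowers h) : w * y = y⁻¹ * w := by
  obtain ⟨j, rfl⟩ := mem_zpowers_iff.1 hy
  rw [← inv_zpow, ← r.whw, conj_zpow, inv_mul_cancel_right]

theorem z_w {y : G} (hy : y ∈ zpowers h) : y * w = w * y⁻¹ := by
  rw [r.w_z (inv_mem hy), inv_inv]

theorem wuw : w * u * w = u⁻¹ * w * u⁻¹ := by
  have h1 : u * (w * u * w) * (u * w) = 1 := by
    rw [← r.uw]; simp only [pow_succ, pow_zero, one_mul, mul_assoc]
  calc w * u * w = u⁻¹ * (u * (w * u * w) * (u * w)) * (u * w)⁻¹ := by group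
    _ = u⁻¹ * w * u⁻¹ := by rw [h1, mul_inv_rev, r.w_inv, mul_one, mul_assoc]

theorem wuw' : w * u⁻¹ * w = u * w * u := by
  have h1 := congrArg (fun x => x⁻¹) r.wuw
  simpa only [mul_inv_rev, inv_inv, r.w_inv, mul_assoc] using h1

variable (n : Num p m k)
include n

theorem memB {g : G} (hg : g ∈ closure ({u, h} : Set G)) : ∃ i < p, ∃ j < m, g = u ^ i * h ^ j :=
  mem_meta n.prime.pos n.pos r.up r.hm r.hu hg

theorem Bw {b : G} (hb : b ∈ closure ({u, h} : Set G)) :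
    ∃ i < p, ∃ c ∈ closure ({u, h} : Set G), b * w = u ^ i * w * c := by
  obtain ⟨i, hi, j, -, rfl⟩ := r.memB n hb
  exact ⟨i, hi, (h ^ j)⁻¹, inv_mem (pow_mem (memR u h) j), by
    rw [mul_assoc, r.z_w (pow_mem (mem_zpowers h) j), mul_assoc]⟩

theorem wtw {t : ℕ} (ht : u ^ t ≠ 1) :
    ∃ b ∈ closure ({u, h} : Set G), ∃ c ∈ closure ({u, h} : Set G), w * u ^ t * w = b * w * c := by
  have h0 : 0 < t % p := Nat.pos_of_ne_zero fun e => ht (by rw [pow_eq_pow_mod t r.up, e, pow_zero])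
  obtain ⟨j, -, hj⟩ := n.gen _ (Nat.mod_lt t n.prime.pos) h0
  have h1 : u ^ (k ^ j % p) = h ^ j * u * (h ^ j)⁻¹ := by
    have := conj_pow_pow r.hu 1 j
    rw [pow_one, mul_one] at this
    rw [this, mul_inv_cancel_right, ← pow_eq_pow_mod _ r.up]
  have hz := pow_mem (mem_zpowers h) j
  have hB := pow_mem (memR u h) j
  have hU := memL u h
  have key : ∀ v : G, w * (h ^ j * v * (h ^ j)⁻¹) * w = (h ^ j)⁻¹ * (w * v * w) * h ^ j := fun v => by
    calc w * (h ^ j * v * (h ^ j)⁻¹) * w = (w * h ^ j) * v * ((h ^ j)⁻¹ * w) := by simp only [mul_assoc]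
      _ = _ := by rw [r.w_z hz, ← r.w_z hz]; simp only [r.w_z hz, mul_assoc]
  rw [pow_eq_pow_mod t r.up]
  rcases hj with hj | hj
  · refine ⟨(h ^ j)⁻¹ * u⁻¹, mul_mem (inv_mem hB) (inv_mem hU), u⁻¹ * h ^ j, mul_mem (inv_mem hU) hB, ?_⟩
    rw [← hj, h1, key, r.wuw]
    simp only [mul_assoc]
  · refine ⟨(h ^ j)⁻¹ * u, mul_mem (inv_mem hB) hU, u * h ^ j, mul_mem hU hB, ?_⟩
    have h2 : u ^ (t % p) = h ^ j * u⁻¹ * (h ^ j)⁻¹ := by
      rw [← conj_inv, ← h1, eq_inv_iff_mul_eq_one, ← pow_add, add_comm, hj, r.up]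
    rw [h2, key, r.wuw']
    simp only [mul_assoc]

/-- **Bruhat decomposition** -/
theorem bruhat {g : G} (hg : g ∈ closure ({u, h, w} : Set G)) :
    g ∈ closure ({u, h} : Set G) ∨ ∃ i < p, ∃ b ∈ closure ({u, h} : Set G), g = u ^ i * w * b := by
  let T : G → Prop := fun g => g ∈ closure ({u, h} : Set G) ∨ ∃ i < p, ∃ b ∈ closure ({u, h} : Set G), g = u ^ i * w * b
  have hB : ∀ b ∈ closure ({u, h} : Set G), ∀ g, T g → T (b * g) := by
    rintro b hb g (hg | ⟨i, -, c, hc, rfl⟩)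
    · exact Or.inl (mul_mem hb hg)
    · obtain ⟨j, hj, d, hd, e⟩ := r.Bw n (mul_mem hb (pow_mem (memL u h) i))
      exact Or.inr ⟨j, hj, d * c, mul_mem hd hc, by rw [← mul_assoc, ← mul_assoc, e, mul_assoc _ d]⟩
  have hW : ∀ g, T g → T (w * g) := by
    rintro g (hg | ⟨i, -, c, hc, rfl⟩)
    · exact Or.inr ⟨0, n.prime.pos, g, hg, by rw [pow_zero, one_mul]⟩
    · by_cases hi : u ^ i = 1
      · refine Or.inl ?_
        rw [hi, one_mul, ← mul_assoc, r.w_mul, one_mul]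
        exact hc
      · obtain ⟨b, hb, d, hd, e⟩ := r.wtw n hi
        have := hB b hb (w * (d * c)) (Or.inr ⟨0, n.prime.pos, d * c, mul_mem hd hc, by rw [pow_zero, one_mul]⟩)
        rwa [← mul_assoc, ← mul_assoc, ← e, mul_assoc, mul_assoc, ← mul_assoc (u ^ i)] at this
  refine closure_induction_left (p := fun g _ => T g) (Or.inl (one_mem _)) ?_ ?_ hg
  · rintro x (rfl | rfl | rfl) y _ hy
    · exact hB _ (memL _ _) y hy
    · exact hB _ (memR _ _) y hy
    · exact hW y hy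
  · rintro x (rfl | rfl | rfl) y _ hy
    · exact hB _ (inv_mem (memL _ _)) y hy
    · exact hB _ (inv_mem (memR _ _)) y hy
    · rw [r.w_inv]; exact hW y hy

/-- **the order bound** -/
theorem card_le : Finite (closure ({u, h, w} : Set G)) ∧ Nat.card (closure ({u, h, w} : Set G)) ≤ (p + 1) * (p * m) := by
  obtain ⟨h1, h2⟩ := card_meta_le n.prime.pos n.pos r.up r.hm r.hu
  have hle : closure ({u, h} : Set G) ≤ closure ({u, h, w} : Set G) := cl2_le (mem1 _ _ _) (mem2 _ _ _)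
  let f : Option (Fin p) × closure ({u, h} : Set G) → closure ({u, h, w} : Set G) := fun t =>
    match t with
    | (none, b) => ⟨b, hle b.2⟩
    | (some i, b) => ⟨u ^ (i : ℕ) * w * b, mul_mem (mul_mem (pow_mem (mem1 _ _ _) _) (mem3 _ _ _)) (hle b.2)⟩
  have hf : Function.Surjective f := fun g => by
    rcases r.bruhat n g.2 with hg | ⟨i, hi, b, hb, e⟩
    · exact ⟨(none, ⟨g, hg⟩), rfl⟩
    · exact ⟨(some ⟨i, hi⟩, ⟨b, hb⟩), Subtype.ext e.symm⟩
  refine ⟨Finite.of_surjective f hf, (Nat.card_le_card_of_surjective f hf).trans ?_⟩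
  rw [Nat.card_prod, Nat.card_eq_fintype_card (α := Option (Fin p)), Fintype.card_option, Fintype.card_fin]
  exact Nat.mul_le_mul_left _ h2

variable (hu : u ≠ 1)
include hu

theorem ord_u : orderOf u = p := by
  have := Fact.mk n.prime
  exact orderOf_eq_prime r.up hu

/-- the Frobenius property -/
theorem frob {i j : ℕ} (h0 : 0 < j) (hj : j < m) (e : h ^ j * u ^ i = u ^ i * h ^ j) : u ^ i = 1 := by
  rw [conj_pow_pow r.hu, mul_left_inj, pow_eq_pow_iff_modEq, r.ord_u n hu] at e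
  by_contra hi
  have h1 : Nat.Coprime p i := (Nat.Prime.coprime_iff_not_dvd n.prime).2 fun hd =>
    hi (orderOf_dvd_iff_pow_eq_one.1 (r.ord_u n hu ▸ hd))
  have h2 : k ^ j ≡ 1 [MOD p] := Nat.ModEq.cancel_right_of_coprime h1 (by rwa [one_mul])
  exact n.ord j hj h0 (Eq.trans h2 (Nat.mod_eq_of_lt n.prime.one_lt))

theorem ord_h : orderOf h = m := by
  refine (orderOf_eq_iff n.pos).2 ⟨r.hm, fun j hj h0 e => hu ?_⟩
  have := r.frob n hu (i := 1) h0 hj (by rw [e, one_mul, mul_one])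
  rwa [pow_one] at this

theorem frob' {x v : G} (hx : x ∈ zpowers h) (hx1 : x ≠ 1) (hv : v ∈ zpowers u) (e : x * v = v * x) : v = 1 := by
  obtain ⟨j, rfl⟩ := (isOfFinOrder_iff_pow_eq_one.2 ⟨m, n.pos, r.hm⟩).mem_powers_iff_mem_zpowers.2 hx
  obtain ⟨i, rfl⟩ := (isOfFinOrder_iff_pow_eq_one.2 ⟨p, n.prime.pos, r.up⟩).mem_powers_iff_mem_zpowers.2 hv
  simp only at e hx1 ⊢
  rw [pow_eq_pow_mod j r.hm] at e hx1
  exact r.frob n hu (Nat.pos_of_ne_zero fun e0 => hx1 (by rw [e0, pow_zero])) (Nat.mod_lt j n.pos) e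

theorem disj {x : G} (hx : x ∈ zpowers h) (hv : x ∈ zpowers u) : x = 1 := by
  by_contra h1
  exact h1 (r.frob' n hu hx h1 hv rfl)

theorem B_le : closure ({u, h} : Set G) ≤ normalizer ((zpowers u : Subgroup G) : Set G) :=
  meta_le_norm n.prime.pos r.up r.hu

theorem w_not : w ∉ normalizer ((zpowers u : Subgroup G) : Set G) := fun hw => by
  have h1 := (mem_normalizer_iff.1 hw u).1 (mem_zpowers u)
  rw [r.w_inv, r.wuw] at h1
  have h2 : w ∈ zpowers u := by
    have := mul_mem (mul_mem (mem_zpowers u) h1) (mem_zpowers u)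
    rwa [← mul_assoc, ← mul_assoc, mul_inv_cancel, one_mul, inv_mul_cancel_right] at this
  have h3 : orderOf w ∣ p := r.ord_u n hu ▸ orderOf_dvd_of_mem_zpowers h2
  have h4 : Nat.Coprime p 2 := (Nat.coprime_primes n.prime Nat.prime_two).2 (by have := n.big; omega)
  have h5 : w = 1 := orderOf_eq_one_iff.1 (Nat.eq_one_of_dvd_coprimes h4 h3 (orderOf_dvd_of_pow_eq_one r.ww))
  have h6 := r.uw
  rw [h5, mul_one] at h6
  have h7 := Nat.le_of_dvd (by norm_num) (r.ord_u n hu ▸ orderOf_dvd_of_pow_eq_one h6)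
  have := n.big
  omega

theorem w_notB : w ∉ closure ({u, h} : Set G) := fun hw => r.w_not n hu (r.B_le n hu hw)

theorem ord_w : orderOf w = 2 :=
  orderOf_eq_prime r.ww fun e => r.w_notB n hu (by rw [e]; exact one_mem _)

theorem card_B : Nat.card (closure ({u, h} : Set G)) = p * m :=
  card_meta_cop n.prime.pos n.pos (r.ord_u n hu) (r.ord_h n hu) r.hu n.cop

/-- **the normaliser of `⟨u⟩`** -/
theorem norm_u : closure ({u, h, w} : Set G) ⊓ normalizer ((zpowers u : Subgroup G) : Set G) =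
    closure ({u, h} : Set G) := by
  refine le_antisymm ?_ (le_inf (cl2_le (mem1 _ _ _) (mem2 _ _ _)) (r.B_le n hu))
  rintro g ⟨h1, h2⟩
  rcases r.bruhat n h1 with hg | ⟨i, -, b, hb, rfl⟩
  · exact hg
  · refine absurd ?_ (r.w_not n hu)
    have := mul_mem (mul_mem (inv_mem (r.B_le n hu (pow_mem (memL u h) i))) h2) (inv_mem (r.B_le n hu hb))
    rwa [mul_assoc, mul_inv_cancel_right, inv_mul_cancel_left] at this

theorem card_D : Nat.card (closure ({h, w} : Set G)) = m * 2 := by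
  refine card_meta (k := m - 1) n.pos (by norm_num) (r.ord_h n hu) (r.ord_w n hu)
    (by rw [r.whw, inv_eq_pow n.pos r.hm]) fun j h0 hj hz => r.w_notB n hu ?_
  obtain rfl : j = 1 := by omega
  rw [pow_one] at hz
  exact zpowers_le.2 (memR u h) hz

omit hu in
theorem D_le {x : G} (hx : x ∈ zpowers h) :
    closure ({h, w} : Set G) ≤ normalizer ((zpowers x : Subgroup G) : Set G) := by
  have hm : x ^ m = 1 := by
    obtain ⟨j, rfl⟩ := mem_zpowers_iff.1 hx
    rw [← zpow_natCast, ← zpow_mul, mul_comm, zpow_mul, zpow_natCast, r.hm, one_zpow]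
  refine cl2_le (norm_of_pow (e := 1) n.pos hm ?_) (norm_of_pow (e := m - 1) n.pos hm ?_)
  · obtain ⟨j, rfl⟩ := mem_zpowers_iff.1 hx
    rw [pow_one, ((Commute.refl h).zpow_right j).eq, mul_inv_cancel_right]
  · rw [r.w_z hx, mul_inv_cancel_right, inv_eq_pow n.pos hm]

/-- a power of `u` which conjugates a nontrivial element of `⟨h⟩` into `⟨h⟩` is trivial -/
theorem conj_in {x : G} (hx : x ∈ zpowers h) (hx1 : x ≠ 1) {i : ℕ} (e : u ^ i * x * (u ^ i)⁻¹ ∈ zpowers h) :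
    u ^ i = 1 := by
  have hN : x ∈ normalizer ((zpowers u : Subgroup G) : Set G) := r.B_le n hu (zpowers_le.2 (memR u h) hx)
  have hi := pow_mem (mem_zpowers u) i
  have h1 : u ^ i * x * (u ^ i)⁻¹ * x⁻¹ ∈ zpowers u := by
    have := mul_mem hi ((mem_normalizer_iff.1 hN _).1 (inv_mem hi))
    rwa [← mul_assoc, ← mul_assoc] at this
  have h2 := r.disj n hu (mul_mem e (inv_mem hx)) h1
  refine r.frob' n hu hx hx1 hi ?_
  rw [mul_inv_eq_one, mul_inv_eq_iff_eq_mul] at h2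
  exact h2.symm

/-- **the normaliser of a subgroup of `⟨h⟩`** -/
theorem norm_h {x : G} (hx : x ∈ zpowers h) (hx1 : x ≠ 1) :
    closure ({u, h, w} : Set G) ⊓ normalizer ((zpowers x : Subgroup G) : Set G) = closure ({h, w} : Set G) := by
  refine le_antisymm ?_ (le_inf (cl2_le (mem2 _ _ _) (mem3 _ _ _)) (r.D_le n hx))
  have hxz : zpowers x ≤ zpowers h := zpowers_le.2 hx
  have hB : ∀ b ∈ closure ({u, h} : Set G), b ∈ normalizer ((zpowers x : Subgroup G) : Set G) →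
      b ∈ closure ({h, w} : Set G) := fun b hb hN => by
    obtain ⟨i, -, j, -, rfl⟩ := r.memB n hb
    have h1 := mul_mem hN (inv_mem (r.D_le n hx (pow_mem (memL h w) j)))
    rw [mul_inv_cancel_right] at h1
    rw [r.conj_in n hu hx hx1 (hxz ((mem_normalizer_iff.1 h1 x).1 (mem_zpowers x))), one_mul]
    exact pow_mem (memL h w) j
  rintro g ⟨h1, h2⟩
  rcases r.bruhat n h1 with hg | ⟨i, -, b, hb, rfl⟩
  · exact hB g hg h2
  · have h3 := (mem_normalizer_iff.1 (inv_mem h2) x).1 (mem_zpowers x)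
    have hxB : x ∈ closure ({u, h} : Set G) := zpowers_le.2 (memR u h) hx
    have hN : x ∈ normalizer ((zpowers u : Subgroup G) : Set G) := r.B_le n hu hxB
    have hi := pow_mem (mem_zpowers u) i
    -- `s = u ^ (-i) * x * u ^ i * x⁻¹` is a power of `u` with `w s w ∈ B`
    have h4 : (u ^ i)⁻¹ * (x * u ^ i * x⁻¹) ∈ zpowers u := mul_mem (inv_mem hi) ((mem_normalizer_iff.1 hN _).1 hi)
    obtain ⟨t, ht⟩ := (isOfFinOrder_iff_pow_eq_one.2 ⟨p, n.prime.pos, r.up⟩).mem_powers_iff_mem_zpowers.2 h4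
    simp only at ht
    have h5 : w * u ^ t * w ∈ closure ({u, h} : Set G) := by
      have h6 := mul_mem (mul_mem (mul_mem hb (zpowers_le.2 hxB h3)) (inv_mem hb)) hxB
      have e : b * ((u ^ i * w * b)⁻¹ * x * (u ^ i * w * b)⁻¹⁻¹) * b⁻¹ * x = w * u ^ t * w := by
        rw [ht]
        calc b * ((u ^ i * w * b)⁻¹ * x * (u ^ i * w * b)⁻¹⁻¹) * b⁻¹ * x
            = w⁻¹ * ((u ^ i)⁻¹ * (x * u ^ i)) * (w * x) := by group
          _ = _ := by rw [r.w_z hx, r.w_inv]; simp only [mul_assoc]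
      rwa [e] at h6
    have h7 : u ^ t = 1 := by
      by_contra h8
      obtain ⟨c, hc, d, hd, e⟩ := r.wtw n h8
      rw [e] at h5
      have := mul_mem (mul_mem (inv_mem hc) h5) (inv_mem hd)
      rw [mul_assoc, mul_inv_cancel_right, inv_mul_cancel_left] at this
      exact r.w_notB n hu this
    rw [h7, eq_inv_mul_iff_mul_eq, mul_one, eq_mul_inv_iff_mul_eq] at ht
    rw [r.frob' n hu hx hx1 hi ht.symm, one_mul] at h2 ⊢
    have h9 := mul_mem (inv_mem (r.D_le n hx (memR h w))) h2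
    rw [inv_mul_cancel_left] at h9
    exact mul_mem (memR h w) (hB b hb h9)

end R1

end Cfsg.Agent.BX.Iso
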